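import Groth.Agent.S0384
import Groth.Agent.Cyc90.ImageGen

/-!
Compactifications with dense open part.
-/

set_option autoImplicit false
set_option linter.style.haveILetI false

universe u

open CategoryTheory CategoryTheory.Limits AlgebraicGeometry

noncomputable section

namespace Groth.Agent.LVCorr4

/-- Nagata, with the source dense. -/
theorem exists_dense_compactification {X S : Scheme.{u}} (f : X ⟶ S) [CompactSpace S] [QuasiSeparatedSpace S]
    [IsSeparated f] [QuasiCompact f] [LocallyOfFiniteType f] :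
    ∃ (Xc : Scheme.{u}) (j : X ⟶ Xc) (g : Xc ⟶ S), IsOpenImmersion j ∧ QuasiCompact j ∧ IsProper g ∧
      DenseRange j.base ∧ j ≫ g = f := by
  obtain ⟨Xc, j, g, hj, hqc, hg, hfac⟩ := S0384.result f
  haveI := hj; haveI := hqc; haveI := hg
  haveI := Cyc90.ImageGen.isOpenImmersion_toImage j
  exact ⟨j.image, j.toImage, j.imageι ≫ g, inferInstance, inferInstance, inferInstance,
    Scheme.Hom.denseRange j.toImage, by rw [Scheme.Hom.toImage_imageι_assoc, hfac]⟩

/-- A correspondence compactified over given compactifications of its targets. -/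
theorem exists_compactification_pair {S C Xb₁ Xb₂ : Scheme.{u}}
    [CompactSpace S] [QuasiSeparatedSpace S]
    (pC : C ⟶ S) [IsSeparated pC] [QuasiCompact pC] [LocallyOfFiniteType pC]
    (pXb₁ : Xb₁ ⟶ S) (pXb₂ : Xb₂ ⟶ S) [IsProper pXb₁] [IsProper pXb₂]
    (f₁ : C ⟶ Xb₁) (f₂ : C ⟶ Xb₂) (h₁ : f₁ ≫ pXb₁ = pC) (h₂ : f₂ ≫ pXb₂ = pC) :
    ∃ (Cb : Scheme.{u}) (pCb : Cb ⟶ S) (j : C ⟶ Cb) (cb₁ : Cb ⟶ Xb₁) (cb₂ : Cb ⟶ Xb₂),
      IsProper pCb ∧ IsOpenImmersion j ∧ DenseRange j.base ∧ j ≫ pCb = pC ∧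
      cb₁ ≫ pXb₁ = pCb ∧ cb₂ ≫ pXb₂ = pCb ∧ j ≫ cb₁ = f₁ ∧ j ≫ cb₂ = f₂ := by
  let P := pullback pXb₁ pXb₂
  let pP : P ⟶ S := pullback.fst pXb₁ pXb₂ ≫ pXb₁
  let m : C ⟶ P := pullback.lift f₁ f₂ (h₁.trans h₂.symm)
  have hm : m ≫ pP = pC := by rw [pullback.lift_fst_assoc, h₁]
  haveI : CompactSpace P := QuasiCompact.compactSpace_of_compactSpace pP
  haveI : QuasiSeparatedSpace P := quasiSeparatedSpace_of_quasiSeparated pP
  haveI : IsSeparated (m ≫ pP) := by rw [hm]; infer_instance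
  haveI : LocallyOfFiniteType (m ≫ pP) := by rw [hm]; infer_instance
  haveI : QuasiCompact (m ≫ pP) := by rw [hm]; infer_instance
  haveI : IsSeparated m := IsSeparated.of_comp m pP
  haveI : LocallyOfFiniteType m := locallyOfFiniteType_of_comp m pP
  haveI : QuasiCompact m := QuasiCompact.of_comp m pP
  obtain ⟨Cb, j, g, hj, -, hg, hd, hfac⟩ := exists_dense_compactification m
  haveI := hg
  refine ⟨Cb, g ≫ pP, j, g ≫ pullback.fst _ _, g ≫ pullback.snd _ _, inferInstance, hj, hd, ?_, ?_, ?_, ?_, ?_⟩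
  · rw [reassoc_of% hfac, hm]
  · simp [pP]
  · simp [pP, pullback.condition]
  · rw [reassoc_of% hfac, pullback.lift_fst]
  · rw [reassoc_of% hfac, pullback.lift_snd]

end Groth.Agent.LVCorr4
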