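import Groth.Agent.LVCorr4.Sep
import Groth.Agent.FlatCrit65.Blow.GraphClosure
import Groth.Agent.S8857

/-!
Extending admissible blow-ups along open immersions.
-/

set_option autoImplicit false
set_option linter.style.haveILetI false
set_option backward.isDefEq.respectTransparency.types false

universe u

open CategoryTheory CategoryTheory.Limits AlgebraicGeometry

noncomputable section

namespace Groth.Agent.LVCorr4

/-- An admissible blow-up of an open extends to one of the whole scheme. -/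
theorem exists_extension_blowUp {X Xb X' : Scheme.{u}} [CompactSpace Xb] [QuasiSeparatedSpace Xb]
    (j : X ⟶ Xb) [IsOpenImmersion j] [CompactSpace X] (U : Xb.Opens) (hU : IsCompact (U : Set Xb))
    (𝓘 : X.IdealSheafData) (b : X' ⟶ X) (hb : BlowUp.IsBlowUp b 𝓘)
    (ha : BlowUp.IsAdmissibleFor (j ⁻¹ᵁ U) 𝓘) :
    ∃ (𝓙 : Xb.IdealSheafData) (Y : Scheme.{u}) (c : Y ⟶ Xb) (l : X' ⟶ Y),
      BlowUp.IsBlowUp c 𝓙 ∧ IsProper c ∧ IsIso (c ∣_ U) ∧ IsOpenImmersion l ∧ l ≫ c = b ≫ j := by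
  let V := j.opensRange
  let e := j.isoOpensRange
  let 𝓘' := 𝓘.comap e.inv
  have h1 : 𝓘'.comap e.hom = 𝓘 := by
    rw [← Scheme.IdealSheafData.comap_comp, e.hom_inv_id, Scheme.IdealSheafData.comap_id]
  have hej : e.inv ≫ j = V.ι := j.isoOpensRange_inv_comp
  have hV : IsCompact (V : Set Xb) := isCompact_range j.continuous
  have ha' : BlowUp.IsAdmissibleFor (V.ι ⁻¹ᵁ U) 𝓘' := by
    refine ⟨Div89.isFiniteTypeIdeal_comap _ ha.1, ?_⟩
    rw [Scheme.IdealSheafData.support_comap, Set.disjoint_left]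
    intro x hx hxU
    refine Set.disjoint_left.1 ha.2 hx ?_
    show j (e.inv x) ∈ U
    rw [← Scheme.Hom.comp_apply, hej]
    exact hxU
  obtain ⟨𝓙, hadm, hres, hblow⟩ := S8857.result Xb U V hU hV 𝓘' ha'
  obtain ⟨Y, c, hc⟩ := FBlow13.exists_isBlowUp_scheme Xb 𝓙
  haveI : IsProper c := RegImm10.BlowModel.isProper_of_isBlowUp hadm.1 hc
  have hcU : IsIso (c ∣_ U) := by
    haveI := Div89.isIso_off_center hc
    have hle : U ≤ 𝓙.support.compl := fun x hx hxI => Set.disjoint_left.1 hadm.2 hxI hx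
    exact MP99.isIso_restrict_of_le c hle
  have hcV := hblow Y c hc
  obtain ⟨l', hl', -⟩ := hcV.2 _ (b ≫ e.hom) (by rw [Scheme.IdealSheafData.comap_comp, h1]; exact hb.1)
  obtain ⟨m, hm, -⟩ := hb.2 _ ((c ∣_ V) ≫ e.inv) (by rw [Scheme.IdealSheafData.comap_comp]; exact hcV.1)
  haveI : IsIso l' := by
    refine ⟨m, ?_, ?_⟩
    · refine (hb.2 X' b hb.1).unique ?_ (Category.id_comp b)
      rw [Category.assoc, hm, reassoc_of% hl', e.hom_inv_id, Category.comp_id]
    · refine (hcV.2 _ (c ∣_ V) hcV.1).unique ?_ (Category.id_comp _)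
      rw [Category.assoc, hl', reassoc_of% hm, e.inv_hom_id, Category.comp_id]
  refine ⟨𝓙, Y, c, l' ≫ (c ⁻¹ᵁ V).ι, hc, inferInstance, hcU, inferInstance, ?_⟩
  rw [Category.assoc, ← morphismRestrict_ι, reassoc_of% hl', Scheme.Hom.isoOpensRange_hom_ι]

end Groth.Agent.LVCorr4
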