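import Groth.Agent.LVCorr4.Dense
import Groth.Agent.FlatCrit65.Blow.Separate
import Groth.Agent.RegImm10.BlowModel
import Groth.Agent.Div89.BlowUp
import Groth.Agent.MP99.AmbPullback

/-!
Compactifications separating finitely many pairs of closed subsets.
-/

set_option autoImplicit false
set_option linter.style.haveILetI false
set_option backward.isDefEq.respectTransparency.types false

universe u v

open CategoryTheory CategoryTheory.Limits AlgebraicGeometry TopologicalSpace Topology

noncomputable section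

namespace Groth.Agent.LVCorr4

/-- a point of an admissible blow-up over the open -/
theorem exists_lift_admissible {X Xb X' : Scheme.{u}} (j : X ⟶ Xb) [IsOpenImmersion j] (b : X' ⟶ Xb)
    {𝓘 : Xb.IdealSheafData} (hb : BlowUp.IsBlowUp b 𝓘) (ha : BlowUp.IsAdmissibleFor j.opensRange 𝓘) :
    ∃ j' : X ⟶ X', IsOpenImmersion j' ∧ j' ≫ b = j := by
  have hle : j.opensRange ≤ 𝓘.support.compl := fun x hx hxI => Set.disjoint_left.1 ha.2 hxI hx
  haveI := Div89.isIso_off_center hb
  haveI := MP99.isIso_restrict_of_le b hle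
  refine ⟨j.isoOpensRange.hom ≫ inv (b ∣_ j.opensRange) ≫ (b ⁻¹ᵁ j.opensRange).ι, inferInstance, ?_⟩
  simp only [Category.assoc, ← morphismRestrict_ι, IsIso.inv_hom_id_assoc,
    Scheme.Hom.isoOpensRange_hom_ι]

theorem isNoetherian_of_lft {X : Scheme.{u}} {k : Type u} [Field k] (p : X ⟶ Spec (CommRingCat.of k))
    [QuasiCompact p] [LocallyOfFiniteType p] : IsNoetherian X := by
  haveI := LocallyOfFiniteType.isLocallyNoetherian p
  haveI : CompactSpace X := QuasiCompact.compactSpace_of_compactSpace p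
  exact {}

/-- compactification separating finitely many disjoint closed pairs -/
theorem exists_compactification_separating {X : Scheme.{u}} (k : Type u) [Field k]
    (pX : X ⟶ Spec (CommRingCat.of k)) [IsSeparated pX] [QuasiCompact pX] [LocallyOfFiniteType pX]
    {ι : Type v} [Finite ι] (C₁ C₂ : ι → Set X) (h₁ : ∀ i, IsClosed (C₁ i)) (h₂ : ∀ i, IsClosed (C₂ i))
    (hd : ∀ i, C₁ i ∩ C₂ i = ∅) :
    ∃ (Xb : Scheme.{u}) (j : X ⟶ Xb) (p : Xb ⟶ Spec (CommRingCat.of k)),
      IsProper p ∧ IsOpenImmersion j ∧ DenseRange j.base ∧ j ≫ p = pX ∧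
      ∀ i, closure (j.base '' C₁ i) ∩ closure (j.base '' C₂ i) = ∅ := by
  classical
  haveI := Fintype.ofFinite ι
  suffices ∀ s : Finset ι, ∃ (Xb : Scheme.{u}) (j : X ⟶ Xb) (p : Xb ⟶ Spec (CommRingCat.of k)),
      IsProper p ∧ IsOpenImmersion j ∧ j ≫ p = pX ∧
      ∀ i ∈ s, closure (j.base '' C₁ i) ∩ closure (j.base '' C₂ i) = ∅ by
    obtain ⟨Xb, j, p, hp, hj, hfac, hs⟩ := this Finset.univ
    haveI := hp; haveI := hj
    haveI : CompactSpace X := QuasiCompact.compactSpace_of_compactSpace pX
    haveI : IsSeparated (j ≫ p) := by rw [hfac]; infer_instance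
    haveI : QuasiCompact (j ≫ p) := by rw [hfac]; infer_instance
    haveI : QuasiCompact j := QuasiCompact.of_comp j p
    haveI := Cyc90.ImageGen.isOpenImmersion_toImage j
    refine ⟨j.image, j.toImage, j.imageι ≫ p, inferInstance, inferInstance,
      Scheme.Hom.denseRange j.toImage, by rw [Scheme.Hom.toImage_imageι_assoc, hfac], fun i => ?_⟩
    have key : ∀ C : Set X, closure (j.toImage.base '' C) ⊆ j.imageι.base ⁻¹' closure (j.base '' C) := by
      intro C
      refine closure_minimal ?_ (isClosed_closure.preimage j.imageι.continuous)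
      rintro _ ⟨x, hx, rfl⟩
      refine subset_closure ⟨x, hx, ?_⟩
      rw [← Scheme.Hom.comp_apply, Scheme.Hom.toImage_imageι]
    rw [← Set.subset_empty_iff]
    rintro x ⟨hx₁, hx₂⟩
    exact Set.eq_empty_iff_forall_notMem.1 (hs i (Finset.mem_univ i)) _ ⟨key _ hx₁, key _ hx₂⟩
  intro s
  induction s using Finset.induction_on with
  | empty =>
    obtain ⟨Xb, j, p, hj, -, hp, hfac⟩ := S0384.result pX
    exact ⟨Xb, j, p, hp, hj, hfac, by simp⟩
  | @insert a s _ ih =>
    obtain ⟨Xb, j, p, hp, hj, hfac, hs⟩ := ih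
    haveI := hp; haveI := hj
    haveI := isNoetherian_of_lft p
    let U := j.opensRange
    haveI : CompactSpace X := QuasiCompact.compactSpace_of_compactSpace pX
    have hU : IsCompact (U : Set Xb) := isCompact_range j.continuous
    let e := j.isoOpensRange
    let T₁ : Set U := e.inv.base ⁻¹' C₁ a
    let T₂ : Set U := e.inv.base ⁻¹' C₂ a
    haveI : NoetherianSpace U := NoetherianSpace.set _
    have hc : ∀ T : Set U, IsClosed T → IsConstructible T := fun T hT =>
      (IsRetrocompact.isConstructible hT.isOpen_compl (fun V _ _ => NoetherianSpace.isCompact _)).of_compl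
    obtain ⟨𝓘, X', b, hb, hadm, hdis⟩ := FlatCrit65.Blow.exists_separating_blowUp U hU T₁ T₂
      ((h₁ a).preimage e.inv.continuous) ((h₂ a).preimage e.inv.continuous)
      (hc _ ((h₁ a).preimage e.inv.continuous)) (hc _ ((h₂ a).preimage e.inv.continuous))
      (Set.disjoint_iff_inter_eq_empty.2 (by rw [← Set.preimage_inter, hd a, Set.preimage_empty]))
    haveI := RegImm10.BlowModel.isProper_of_isBlowUp hadm.1 hb
    obtain ⟨j', hj', hjb⟩ := exists_lift_admissible j b hb hadm
    have hpre : ∀ (C : Set X) (T : Set U), T = e.inv.base ⁻¹' C →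
        j'.base '' C ⊆ b.base ⁻¹' (Subtype.val '' T) := by
      rintro C T rfl _ ⟨x, hx, rfl⟩
      refine ⟨e.hom x, ?_, ?_⟩
      · show e.inv (e.hom x) ∈ C
        rw [← Scheme.Hom.comp_apply, e.hom_inv_id]
        exact hx
      · show j.opensRange.ι (e.hom x) = b (j' x)
        rw [← Scheme.Hom.comp_apply, ← Scheme.Hom.comp_apply, hjb, Scheme.Hom.isoOpensRange_hom_ι]
    refine ⟨X', j', b ≫ p, inferInstance, hj', by rw [← Category.assoc, hjb, hfac], fun i hi => ?_⟩
    rw [Finset.mem_insert] at hi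
    rcases hi with rfl | hi
    · rw [← Set.subset_empty_iff, ← Set.disjoint_iff]
      exact hdis.mono (closure_mono (hpre _ _ rfl)) (closure_mono (hpre _ _ rfl))
    · have key : ∀ C : Set X, closure (j'.base '' C) ⊆ b.base ⁻¹' closure (j.base '' C) := by
        intro C
        refine closure_minimal ?_ (isClosed_closure.preimage b.continuous)
        rintro _ ⟨x, hx, rfl⟩
        refine subset_closure ⟨x, hx, ?_⟩
        rw [← Scheme.Hom.comp_apply, hjb]
      rw [← Set.subset_empty_iff]
      rintro x ⟨hx₁, hx₂⟩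
      exact Set.eq_empty_iff_forall_notMem.1 (hs i hi) _ ⟨key _ hx₁, key _ hx₂⟩

end Groth.Agent.LVCorr4
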